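/-
An upper bound for the stem extensions of `G₂(3)`.

* `orth`: the pairs of roots not separated by the torus over the field with three elements.
* `lifting_of_orth`: lifts exist as soon as the preimages of these root elements commute.
* `bound_three`: the kernel of a stem extension is generated by one element of cube `1`.
-/
import Cfsg.Agent.Lib.ChevSt.SmallQSplit

set_option autoImplicit false
set_option maxRecDepth 100000
set_option linter.style.haveILetI false
set_option linter.unusedSectionVars false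

universe u

namespace Cfsg.Agent.G2Cover

open Cfsg.Lie Cfsg.Lie.ChevalleyDatum Cfsg.Agent.Chev Cfsg.Agent.ChevBN Cfsg.Agent.ChevSt

/-- Commuting pairs of roots. -/
def commPair (D : ChevalleyDatum) (r s : ℕ) : Bool :=
  decide (r < D.nroots ∧ s < D.nroots ∧ s ≠ r ∧ s ≠ D.neg r) && (D.commTerms r s).isEmpty

/-- The pairs reached by simple reflections and exchange. -/
def reach (D : ChevalleyDatum) : ℕ → List (ℕ × ℕ) → List (ℕ × ℕ)
  | 0, l => l
  | n + 1, l => reach D n (l ++ (l.flatMap fun p =>
      [(p.2, p.1), (wN D 0 p.1, wN D 0 p.2), (wN D 1 p.1, wN D 1 p.2)]).eraseDups).eraseDups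

/-- The images of the orthogonal pair `(0, 4)`. -/
def orth : List (ℕ × ℕ) := reach chevG2 8 [(0, 4)]

theorem orth_comm : (orth.all fun p => commPair chevG2 p.1 p.2) = true := by decide +kernel

theorem orth_covers : ((List.range 12).all fun r => moveB chevG2 2 r && (List.range 12).all fun s =>
    decide (s = r ∨ s = chevG2.neg r) || fixB chevG2 2 r s || orth.contains (r, s)) = true := by decide +kernel

section

variable {F : Type*} [Field F] [Finite F] [CharP F 3] {E L : Type*} [Group E] [Group L]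
  (S : Sys chevG2 F E) (hD : Good chevG2)
  (hX : ∀ i < chevG2.rank, Decomp chevG2 (chevG2.simple i) ∧ Decomp chevG2 (chevG2.neg (chevG2.simple i)))
  {p : L →* E} (hp : Function.Surjective p) (hc : p.ker ≤ Subgroup.center L)
  (hq : Nat.card F = 3) (hpr : ∀ t : F, ∃ n : ℕ, t = n • 1)

omit [Finite F] [CharP F 3] in
theorem x_comm {r s : ℕ} (h : commPair chevG2 r s = true) (t u : F) : S.x r t * S.x s u = S.x s u * S.x r t := by
  simp only [commPair, Bool.and_eq_true, decide_eq_true_eq, List.isEmpty_iff] at h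
  obtain ⟨⟨hr, hs, h₁, h₂⟩, h⟩ := h
  rw [S.comm r s hr hs h₁ h₂ t u, ChevalleyDatum.commWord, h]
  simp

include hD hX hp hc hq hpr in
/-- Lifts exist when the preimages of the orthogonal root elements commute. -/
theorem lifting_of_orth (hgen : Subgroup.closure {g | ∃ r t, g = S.x r t} = ⊤)
    (horth : ∀ a ∈ orth, ∀ t u, S.pair hp a.1 a.2 t u = 1) : Nonempty (Lifting S p) := by
  obtain ⟨v, hv⟩ := exists_unit_order (F := F) (m := 2) hq
  have hcov := orth_covers
  simp only [List.all_eq_true, List.mem_range, Bool.and_eq_true, Bool.or_eq_true, decide_eq_true_eq,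
    List.contains_eq_mem] at hcov
  have hn : chevG2.nroots = 12 := rfl
  choose y hy using fun r => S.exists_root_lift hgen hp hc r
    (fun hr => S.exists_move_of_moveB hD rootsG2 hX (m := 2) hv (hcov r (hn ▸ hr)).1) (S.commAll_prime hp hc hpr r)
  refine S.lifting_of_pairs hp hc y hy fun r hr s hs h₁ h₂ => ?_
  rcases (hcov r (hn ▸ hr)).2 s (hn ▸ hs) with (hh | hh) | hh
  · tauto
  · exact Or.inl (S.exists_fix_of_fixB hD rootsG2 hX (m := 2) hv hh)
  · have hm : commPair chevG2 r s = true := List.all_eq_true.1 orth_comm (r, s) hh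
    have hnil : chevG2.commTerms r s = [] := by
      simp only [commPair, Bool.and_eq_true, List.isEmpty_iff] at hm
      exact hm.2
    exact Or.inr (Or.inr (Or.inl ⟨hnil, fun t u =>
      S.comm_of_pair hp hc (horth _ hh t u) ((hy r).p_y t) ((hy s).p_y u)⟩))

include hD hX hp hc hpr in
/-- All deviations of orthogonal pairs lie in the group of one of them. -/
theorem pair_mem_zpowers : ∀ a ∈ orth, ∀ t u,
    S.pair hp a.1 a.2 t u ∈ Subgroup.zpowers (S.pair hp 0 4 1 1) := by
  classical
  set C := Subgroup.zpowers (S.pair hp 0 4 1 1)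
  let Ok : ℕ × ℕ → Prop := fun a => commPair chevG2 a.1 a.2 = true → ∀ t u, S.pair hp a.1 a.2 t u ∈ C
  have base : Ok (0, 4) := by
    intro h t u
    have hcm := fun t u => x_comm S h (F := F) t u
    obtain ⟨n, rfl⟩ := hpr t
    obtain ⟨m, rfl⟩ := hpr u
    have hz : ∀ w, S.pair hp 0 4 0 w = 1 := fun w => by
      have := S.pair_add_left hp hc hcm 0 0 w
      rw [add_zero] at this
      exact left_eq_mul.1 this
    have hz' : ∀ w, S.pair hp 0 4 w 0 = 1 := fun w => by
      have := S.pair_add_right hp hc hcm w 0 0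
      rw [add_zero] at this
      exact left_eq_mul.1 this
    have h1 : ∀ k : ℕ, S.pair hp 0 4 1 (k • 1) ∈ C := by
      intro k
      induction k with
      | zero => rw [zero_smul, hz']; exact one_mem _
      | succ k ih => rw [succ_nsmul, S.pair_add_right hp hc hcm]; exact mul_mem ih (Subgroup.mem_zpowers _)
    show S.pair hp 0 4 (n • 1) (m • 1) ∈ C
    induction n with
    | zero => rw [zero_smul, hz]; exact one_mem _
    | succ n ih => rw [succ_nsmul, S.pair_add_left hp hc hcm]; exact mul_mem ih (h1 m)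
  have hswap : ∀ a : ℕ × ℕ, commPair chevG2 a.1 a.2 = true → Ok a → Ok (a.2, a.1) := by
    intro a h ha _ t u
    have := inv_mem (ha h u t)
    rwa [show (S.pair hp a.1 a.2 u t)⁻¹ = S.pair hp a.2 a.1 t u by simp only [Sys.pair]; group] at this
  have hrefl : ∀ i < chevG2.rank, ∀ a : ℕ × ℕ, commPair chevG2 a.1 a.2 = true → Ok a →
      Ok (wN chevG2 i a.1, wN chevG2 i a.2) := by
    intro i hi a h ha _ t u
    have hlt : a.1 < chevG2.nroots ∧ a.2 < chevG2.nroots := by
      simp only [commPair, Bool.and_eq_true, decide_eq_true_eq] at h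
      exact ⟨h.1.1, h.1.2.1⟩
    obtain ⟨m, hm⟩ := hp (S.n (chevG2.simple i) 1)
    have key : ∀ {r : ℕ}, r < chevG2.nroots → ∀ v : F, ∃ w : F, ∀ V, p V = S.x r w →
        p (m * V * m⁻¹) = S.x (wN chevG2 i r) v := by
      intro r hr v
      refine ⟨(nSign chevG2 (chevG2.simple i) r : F) * v, fun V hV => ?_⟩
      have he2 : (nSign chevG2 (chevG2.simple i) r : F) * (nSign chevG2 (chevG2.simple i) r : F) = 1 := by
        rcases (nSign_cases hD (hD.simple_lt i hi) hr).1 with e | e <;> simp [e]
      rw [map_mul, map_mul, map_inv, hV, hm, S.n_conj hD rootsG2 hX hi hr one_ne_zero, one_zpow, mul_one,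
        ← mul_assoc, he2, one_mul]
    obtain ⟨v, hv⟩ := key hlt.1 t
    obtain ⟨w, hw⟩ := key hlt.2 u
    set A := Function.surjInv hp (S.x a.1 v)
    set B := Function.surjInv hp (S.x a.2 w)
    rw [← S.pair_eq hp hc (hv A (Function.surjInv_eq hp _)) (hw B (Function.surjInv_eq hp _)),
      show m * A * m⁻¹ * (m * B * m⁻¹) * (m * A * m⁻¹)⁻¹ * (m * B * m⁻¹)⁻¹ =
        m * S.pair hp a.1 a.2 v w * m⁻¹ by simp only [Sys.pair, A, B]; group,
      ker_comm hc (S.pair_ker hp hc (x_comm S h) v w), mul_inv_cancel_right]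
    · exact ha h v w
  have hreach : ∀ n l, (∀ a ∈ l, commPair chevG2 a.1 a.2 = true → Ok a) →
      (∀ a ∈ reach chevG2 n l, commPair chevG2 a.1 a.2 = true) →
      ∀ a ∈ reach chevG2 n l, Ok a := by
    intro n
    induction n with
    | zero => exact fun l hl hcomm a ha => hl a ha (hcomm a ha)
    | succ n ih =>
      intro l hl hcomm
      refine ih _ (fun a ha hca => ?_) hcomm
      have hmono : ∀ (k : ℕ) (l' : List (ℕ × ℕ)), ∀ b ∈ l', b ∈ reach chevG2 k l' := by
        intro k
        induction k with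
        | zero => exact fun l' b hb => hb
        | succ k ihk => exact fun l' b hb => ihk _ b (List.mem_eraseDups.2 (List.mem_append_left _ hb))
      simp only [List.mem_eraseDups, List.mem_append, List.mem_flatMap, List.mem_cons, List.not_mem_nil,
        or_false] at ha
      rcases ha with ha | ⟨b, hb, hb'⟩
      · exact hl a ha hca
      · have hcb : commPair chevG2 b.1 b.2 = true :=
          hcomm b (hmono n _ b (List.mem_eraseDups.2 (List.mem_append_left _ hb)))
        rcases hb' with rfl | rfl | rfl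
        · exact hswap b hcb (hl b hb hcb)
        · exact hrefl 0 (by decide) b hcb (hl b hb hcb)
        · exact hrefl 1 (by decide) b hcb (hl b hb hcb)
  intro a ha
  exact hreach 8 [(0, 4)] (fun b hb _ => by rw [List.mem_singleton.1 hb]; exact base)
    (fun b hb => List.all_eq_true.1 orth_comm b hb) a ha (List.all_eq_true.1 orth_comm a ha)

end

/-- The kernel of a stem extension of the covering group of `G₂(3)` is generated by an element of cube one. -/
theorem bound_three {F : Type u} [Field F] [Fintype F] (hF : Fintype.card F = 3)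
    (hD : Good chevG2)
    {Γ : Type u} [Group Γ] (σ : Γ →* chevG2.SteinbergCover F) (hσ : Cfsg.IsStemExtension σ) :
    ∃ c ∈ σ.ker, c ^ 3 = 1 ∧ σ.ker ≤ Subgroup.zpowers c := by
  obtain ⟨hp, hc, hcomm⟩ := hσ
  have hmem : chevG2 ∈ [chevG2, chevB2, chevD4, chevF4, chevE6, chevE7, chevE8] := by simp
  have hX := fun (i : ℕ) (hi : i < chevG2.rank) => exists_decomp chevG2 hmem (i := i) hi
  have hq : Nat.card F = 3 := Nat.card_eq_fintype_card.trans hF
  haveI := charP_of_three (F := F) hq
  haveI : Fact (Nat.Prime 3) := ⟨Nat.prime_three⟩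
  have hpr := prime_field (F := F) hq
  have hθ : ∀ (r : ℕ) (t : F), r < chevG2.nroots →
      ((covHom F hD (chevG2.scGen F r t) : GL chevG2.Idx F) : Matrix chevG2.Idx chevG2.Idx F) = chevG2.x F r t :=
    fun r t _ => by rw [covHom_gen, coe_xg]
  have hgen := presSys_gen F (chevG2.steinbergRelsAB F) subset_rfl (covHom F hD) hθ
  set S := presSys F (chevG2.steinbergRelsAB F) subset_rfl (covHom F hD) hθ
  have h04 : commPair chevG2 0 4 = true := by decide +kernel
  have hcm := fun t u => x_comm S h04 (F := F) t u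
  set c := S.pair hp 0 4 1 1 with hcdef
  have hck : c ∈ σ.ker := S.pair_ker hp hc hcm 1 1
  have h3 : c ^ 3 = 1 := by
    have e0 : S.pair hp 0 4 0 1 = 1 := by
      have := S.pair_add_left hp hc hcm 0 0 1
      rw [add_zero] at this
      exact left_eq_mul.1 this
    have e3 : (0 : F) = 1 + 1 + 1 := by
      have := CharP.cast_eq_zero F 3
      push_cast at this
      rw [← this]; norm_num
    rw [e3, S.pair_add_left hp hc hcm, S.pair_add_left hp hc hcm, ← hcdef] at e0
    rw [pow_three, ← mul_assoc]; exact e0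
  refine ⟨c, hck, h3, ?_⟩
  set C := Subgroup.zpowers c with hC
  have hCle : C ≤ σ.ker := Subgroup.zpowers_le.2 hck
  haveI : C.Normal := ⟨fun x hx g => by
    rw [Subgroup.mem_center_iff.1 (hc (hCle hx)) g, mul_inv_cancel_right]; exact hx⟩
  let σ' : Γ ⧸ C →* chevG2.SteinbergCover F := QuotientGroup.lift C σ hCle
  have hσ' : ∀ g : Γ, σ' (g : Γ ⧸ C) = σ g := fun g => QuotientGroup.lift_mk' C _ g
  have hp' : Function.Surjective σ' := fun a => by
    obtain ⟨g, rfl⟩ := hp a; exact ⟨g, hσ' g⟩
  have hc' : σ'.ker ≤ Subgroup.center (Γ ⧸ C) := by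
    intro x hx
    obtain ⟨g, rfl⟩ := QuotientGroup.mk_surjective x
    rw [MonoidHom.mem_ker, hσ'] at hx
    rw [Subgroup.mem_center_iff]
    intro y
    obtain ⟨h, rfl⟩ := QuotientGroup.mk_surjective y
    rw [← QuotientGroup.mk_mul, ← QuotientGroup.mk_mul, Subgroup.mem_center_iff.1 (hc hx) h]
  have horth : ∀ a ∈ orth, ∀ t u, S.pair hp' a.1 a.2 t u = 1 := by
    intro a ha t u
    have h1 := pair_mem_zpowers S hD hX hp hc hpr a ha t u
    rw [← S.pair_eq hp' hc' (r := a.1) (q := a.2) (t := t) (u := u)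
      (A := QuotientGroup.mk (s := C) (Function.surjInv hp (S.x a.1 t)))
      (B := QuotientGroup.mk (s := C) (Function.surjInv hp (S.x a.2 u)))
      ((hσ' _).trans (Function.surjInv_eq hp _)) ((hσ' _).trans (Function.surjInv_eq hp _)),
      ← QuotientGroup.mk_inv, ← QuotientGroup.mk_inv, ← QuotientGroup.mk_mul, ← QuotientGroup.mk_mul,
      ← QuotientGroup.mk_mul, QuotientGroup.eq_one_iff]
    exact h1
  obtain ⟨Y⟩ := lifting_of_orth S hD hX hp' hc' hq hpr hgen horth
  obtain ⟨s, hs⟩ := section_of_lifting hD rootsG2 hθ Y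
  intro g hg
  have hr : ∀ x : Γ, ∀ h ∈ commutator Γ, h = x → (x : Γ ⧸ C) ∈ s.range := by
    rintro x _ hx rfl
    have hle : commutator Γ ≤ s.range.comap (QuotientGroup.mk' C) := by
      rw [commutator_eq_closure, Subgroup.closure_le]
      rintro _ ⟨a, b, rfl⟩
      obtain ⟨k, hk, ea⟩ := exists_ker_mul hc' (A := s (σ a)) (A' := (a : Γ ⧸ C))
        (by rw [← MonoidHom.comp_apply, hs, hσ']; rfl)
      obtain ⟨l, hl, eb⟩ := exists_ker_mul hc' (A := s (σ b)) (A' := (b : Γ ⧸ C))
        (by rw [← MonoidHom.comp_apply, hs, hσ']; rfl)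
      refine ⟨σ a * σ b * (σ a)⁻¹ * (σ b)⁻¹, ?_⟩
      rw [commutatorElement_def, QuotientGroup.mk'_apply]
      simp only [QuotientGroup.mk_mul, QuotientGroup.mk_inv, map_mul, map_inv]
      exact comm_congr hc' (by rw [hσ', ← MonoidHom.comp_apply, hs]; rfl)
        (by rw [hσ', ← MonoidHom.comp_apply, hs]; rfl)
    exact hle hx
  obtain ⟨d, hd⟩ := hr g g (hcomm hg) rfl
  have hd1 : d = 1 := by
    have := congrArg σ' hd
    rw [← MonoidHom.comp_apply, hs, hσ', MonoidHom.mem_ker.1 hg] at this
    exact this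
  rw [hd1, map_one, eq_comm, QuotientGroup.eq_one_iff] at hd
  exact hd

end Cfsg.Agent.G2Cover
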