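/-
Checks of the table of the monomial model of the triple cover of `G₂(3)`.

* `checkPerm_true`, `checkTab_true`, `checkRel_true`, `check_dev`.
-/
import Cfsg.Agent.Lib.G2Cover.ThreeData
import Cfsg.Agent.Lib.ChevSt.Extra
import Mathlib.Tactic.IntervalCases

set_option autoImplicit false
set_option maxRecDepth 100000
set_option maxHeartbeats 0
set_option Elab.async false

namespace Cfsg.Agent.G2Cover

open Cfsg.Lie Cfsg.Lie.ChevalleyDatum

/-- One step of the lift of `x_r(1)`. -/
def step (r x : ℕ) : ℕ :=
  let e := (tbl r >>> (11 * (x / 3))) % 2048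
  e / 3 * 3 + (e % 3 + x % 3) % 3

/-- The central step. -/
def zf (x : ℕ) : ℕ := x / 3 * 3 + (x % 3 + 1) % 3

/-- Iterated steps. -/
def stepN (r : ℕ) : ℕ → ℕ → ℕ
  | 0, x => x
  | m + 1, x => step r (stepN r m x)

/-- Iterated central steps. -/
def zN : ℕ → ℕ → ℕ
  | 0, x => x
  | m + 1, x => zf (zN m x)

/-- The image of a point under a word. -/
def act (w : List (ℕ × ℕ)) (x : ℕ) : ℕ := w.foldr (fun q y => stepN q.1 q.2 y) x

/-- The images of a list of points under a word. -/
def acts (w : List (ℕ × ℕ)) (L : List ℕ) : List ℕ := w.foldr (fun q M => M.map (stepN q.1 q.2)) L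

theorem acts_eq (w : List (ℕ × ℕ)) (L : List ℕ) : acts w L = L.map (act w) := by
  induction w with
  | nil => exact (List.map_id' L).symm
  | cons q w ih =>
    show (acts w L).map _ = _
    rw [ih, List.map_map]
    rfl

/-- The right side of a commutator relation. -/
def rhsW (r s t u : ℕ) : List (ℕ × ℕ) :=
  [(r, t), (s, u)] ++ (ctab r s).map fun c =>
    (c.1, ((c.2.1 * (-(t : ℤ)) ^ c.2.2.1 * (u : ℤ) ^ c.2.2.2) % 3).toNat)

/-- Two words agree up to a power of the central step on all representatives. -/
def agree (d : ℕ) (v w : List (ℕ × ℕ)) : Bool :=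
  acts v ((List.range 378).map (3 * ·)) == (acts w ((List.range 378).map (3 * ·))).map (zN d)

/-- The commutator relations of the root `r`. -/
def checkRel (r : ℕ) : Bool :=
  (List.range 12).all fun s => decide (s = r ∨ s = chevG2.neg r) || ([1, 2].all fun t => [1, 2].all fun u =>
      (List.range 3).any fun d => agree d [(s, u), (r, t)] (rhsW r s t u))

/-- The lifts are permutations of order three commuting with the central step. -/
def checkPerm : Bool :=
  (List.range 12).all fun r => (List.range 1134).all fun x =>
    decide (step r x < 1134) && (stepN r 3 x == x) && (step r (zf x) == zf (step r x))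

/-- The table lists the commutator terms. -/
def checkTab : Bool :=
  (List.range 12).all fun r => (List.range 12).all fun s =>
    decide (s = r ∨ s = chevG2.neg r) || (decide (ctab r s = chevG2.commTerms r s) &&
      (ctab r s).all fun c => decide (c.1 < 12 ∧ 1 ≤ c.2.2.1 ∧ 1 ≤ c.2.2.2))

theorem checkTab_true : checkTab = true := by decide +kernel

theorem ctab_eq {r s : ℕ} (hr : r < 12) (hs : s < 12) (h₁ : s ≠ r) (h₂ : s ≠ chevG2.neg r) :
    ctab r s = chevG2.commTerms r s ∧ ∀ c ∈ ctab r s, c.1 < 12 ∧ 1 ≤ c.2.2.1 ∧ 1 ≤ c.2.2.2 := by
  have h := checkTab_true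
  simp only [checkTab, List.all_eq_true, List.mem_range, Bool.or_eq_true, Bool.and_eq_true, decide_eq_true_eq] at h
  exact (h r hr s hs).resolve_left (by tauto)

theorem checkPerm_true : checkPerm = true := by decide +kernel

theorem checkRel_0 : checkRel 0 = true := by decide +kernel

theorem checkRel_1 : checkRel 1 = true := by decide +kernel

theorem checkRel_2 : checkRel 2 = true := by decide +kernel

theorem checkRel_3 : checkRel 3 = true := by decide +kernel

theorem checkRel_4 : checkRel 4 = true := by decide +kernel

theorem checkRel_5 : checkRel 5 = true := by decide +kernel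

theorem checkRel_6 : checkRel 6 = true := by decide +kernel

theorem checkRel_7 : checkRel 7 = true := by decide +kernel

theorem checkRel_8 : checkRel 8 = true := by decide +kernel

theorem checkRel_9 : checkRel 9 = true := by decide +kernel

theorem checkRel_10 : checkRel 10 = true := by decide +kernel

theorem checkRel_11 : checkRel 11 = true := by decide +kernel

theorem checkRel_true {r : ℕ} (hr : r < 12) : checkRel r = true := by
  interval_cases r
  · exact checkRel_0
  · exact checkRel_1
  · exact checkRel_2
  · exact checkRel_3
  · exact checkRel_4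
  · exact checkRel_5
  · exact checkRel_6
  · exact checkRel_7
  · exact checkRel_8
  · exact checkRel_9
  · exact checkRel_10
  · exact checkRel_11


/-- The orthogonal pair `(0, 4)` deviates. -/
theorem check_dev : (agree 1 [(0, 1), (4, 1)] [(4, 1), (0, 1)] || agree 2 [(0, 1), (4, 1)] [(4, 1), (0, 1)]) = true := by
  decide +kernel

end Cfsg.Agent.G2Cover
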