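/-
A stem extension of the covering group of `G₂(3)` with kernel of order three.

* `checkPerm`, `checkRel`: the facts read from the table.
* `exists_cover_three`: the extension.
-/
import Cfsg.Agent.Lib.G2Cover.ThreeCheck
import Cfsg.Agent.Lib.ChevSt.Multiplier
import Cfsg.Agent.Lib.Chev.All
import Mathlib.GroupTheory.Perm.Basic

set_option autoImplicit false
set_option maxRecDepth 100000
set_option linter.style.haveILetI false

universe u

namespace Cfsg.Agent.G2Cover

open Cfsg.Lie Cfsg.Lie.ChevalleyDatum Cfsg.Agent.Chev Cfsg.Agent.ChevBN Cfsg.Agent.ChevSt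
open scoped commutatorElement

theorem step_spec {r x : ℕ} (hr : r < 12) (hx : x < 1134) :
    step r x < 1134 ∧ stepN r 3 x = x ∧ step r (zf x) = zf (step r x) := by
  have h := checkPerm_true
  simp only [checkPerm, List.all_eq_true, List.mem_range, Bool.and_eq_true, decide_eq_true_eq, beq_iff_eq] at h
  exact ⟨(h r hr x hx).1.1, (h r hr x hx).1.2, (h r hr x hx).2⟩

theorem zf_lt {x : ℕ} (hx : x < 1134) : zf x < 1134 := by unfold zf; omega

/-- The central permutation. -/
def Z : Equiv.Perm (Fin 1134) where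
  toFun x := ⟨zf x, zf_lt x.2⟩
  invFun x := ⟨zf (zf x), zf_lt (zf_lt x.2)⟩
  left_inv x := Fin.ext (by simp only [zf]; omega)
  right_inv x := Fin.ext (by simp only [zf]; omega)

/-- The lift of `x_r(1)`. -/
def Y (r : ℕ) : Equiv.Perm (Fin 1134) :=
  if h : r < 12 then
    { toFun := fun x => ⟨step r x, (step_spec h x.2).1⟩
      invFun := fun x => ⟨step r (step r x), (step_spec h (step_spec h x.2).1).1⟩
      left_inv := fun x => Fin.ext (step_spec h x.2).2.1
      right_inv := fun x => Fin.ext (step_spec h x.2).2.1 }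
  else 1

theorem Y_cube (r : ℕ) : Y r ^ 3 = 1 := by
  by_cases h : r < 12
  · refine Equiv.ext fun x => Fin.ext ?_
    rw [pow_three]
    simp only [Y, dif_pos h, Equiv.Perm.mul_apply]
    exact (step_spec h x.2).2.1
  · simp [Y, h]

theorem Y_comm (r : ℕ) : Commute (Y r) Z := by
  by_cases h : r < 12
  · refine Equiv.ext fun x => Fin.ext ?_
    simp only [Y, dif_pos h, Equiv.Perm.mul_apply]
    exact (step_spec h x.2).2.2
  · simp [Y, h]

theorem Z_pow_val (d : ℕ) (x : Fin 1134) : ((Z ^ d) x : ℕ) = zN d x := by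
  induction d with
  | zero => rfl
  | succ d ih =>
    rw [pow_succ', Equiv.Perm.mul_apply]
    show zf ((Z ^ d) x : ℕ) = _
    rw [ih]
    rfl

theorem Y_pow_val {r : ℕ} (h : r < 12) (m : ℕ) (x : Fin 1134) : ((Y r ^ m) x : ℕ) = stepN r m x := by
  induction m with
  | zero => rfl
  | succ m ih =>
    rw [pow_succ', Equiv.Perm.mul_apply]
    simp only [Y, dif_pos h] at ih ⊢
    show step r _ = _
    rw [ih]
    rfl

/-- The value of a word. -/
def wv (w : List (ℕ × ℕ)) : Equiv.Perm (Fin 1134) := (w.map fun q => Y q.1 ^ q.2).prod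

theorem wv_val {w : List (ℕ × ℕ)} (hw : ∀ q ∈ w, q.1 < 12) (x : Fin 1134) : (wv w x : ℕ) = act w x := by
  induction w with
  | nil => rfl
  | cons q w ih =>
    rw [wv, List.map_cons, List.prod_cons, Equiv.Perm.mul_apply, Y_pow_val (hw q List.mem_cons_self)]
    show stepN _ _ (wv w x : ℕ) = _
    rw [ih fun a ha => hw a (List.mem_cons_of_mem _ ha)]
    rfl

theorem wv_comm (w : List (ℕ × ℕ)) : Commute (wv w) Z :=
  Commute.list_prod_left _ _ fun g hg => by
    obtain ⟨q, -, rfl⟩ := List.mem_map.1 hg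
    exact (Y_comm q.1).pow_left q.2

theorem eq_of_agree {d : ℕ} {v w : List (ℕ × ℕ)} (hv : ∀ q ∈ v, q.1 < 12) (hw : ∀ q ∈ w, q.1 < 12)
    (h : agree d v w = true) : wv v = Z ^ d * wv w := by
  simp only [agree, acts_eq, beq_iff_eq, List.map_map] at h
  have h : ∀ p < 378, act v (3 * p) = zN d (act w (3 * p)) := fun p hp =>
    List.map_inj_left.1 h p (List.mem_range.2 hp)
  refine Equiv.ext fun x => ?_
  have hx : x = (Z ^ (x.val % 3)) ⟨3 * (x.val / 3), by omega⟩ := Fin.ext <| by
    rw [Z_pow_val]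
    rcases (by omega : x.val % 3 = 0 ∨ x.val % 3 = 1 ∨ x.val % 3 = 2) with e | e | e <;>
      simp only [e, zN, zf] <;> omega
  have e0 : wv v ⟨3 * (x.val / 3), by omega⟩ = (Z ^ d * wv w) ⟨3 * (x.val / 3), by omega⟩ := Fin.ext <| by
    rw [Equiv.Perm.mul_apply, Z_pow_val, wv_val hv, wv_val hw]
    exact h _ (by omega)
  rw [hx, ← Equiv.Perm.mul_apply, ((wv_comm v).pow_right _).eq, Equiv.Perm.mul_apply, e0,
    ← Equiv.Perm.mul_apply, ← Equiv.Perm.mul_apply]
  congr 1
  rw [← mul_assoc, ← pow_add, add_comm, pow_add, mul_assoc, mul_assoc, ((wv_comm w).pow_right _).eq]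

theorem Z_order : orderOf Z = 3 := by
  haveI : Fact (Nat.Prime 3) := ⟨Nat.prime_three⟩
  refine orderOf_eq_prime (Equiv.ext fun x => Fin.ext ?_) fun h => ?_
  · rw [Z_pow_val]; simp only [zN, zf, Equiv.Perm.one_apply]; omega
  · have := congrArg (fun g : Equiv.Perm (Fin 1134) => (g 0 : ℕ)) h
    simp [Z, zf] at this

/-- The centraliser of the central permutation. -/
abbrev Amb : Subgroup (Equiv.Perm (Fin 1134)) := Subgroup.centralizer {Z}

/-- The group generated by the central permutation. -/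
abbrev Zc : Subgroup Amb := (Subgroup.zpowers Z).subgroupOf Amb

instance zc_normal : Zc.Normal := ⟨fun x hx g => by
  rw [Subgroup.mem_subgroupOf] at hx ⊢
  obtain ⟨m, hm⟩ := Subgroup.mem_zpowers_iff.1 hx
  have h1 : Commute (g : Equiv.Perm (Fin 1134)) Z := Subgroup.mem_centralizer_singleton_iff.1 g.2
  refine Subgroup.mem_zpowers_iff.2 ⟨m, ?_⟩
  rw [Subgroup.coe_mul, Subgroup.coe_mul, InvMemClass.coe_inv, ← hm, (h1.zpow_right m).eq,
    mul_inv_cancel_right]⟩

/-- A word in the centraliser. -/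
def amb (w : List (ℕ × ℕ)) : Amb := ⟨wv w, Subgroup.mem_centralizer_singleton_iff.2 (wv_comm w).eq⟩

theorem amb_append (v w : List (ℕ × ℕ)) : amb (v ++ w) = amb v * amb w :=
  Subtype.ext (by simp [amb, wv, List.map_append, List.prod_append])

theorem amb_rel {d : ℕ} {v w : List (ℕ × ℕ)} (h : wv v = Z ^ d * wv w) : (amb v : Amb ⧸ Zc) = amb w := by
  rw [eq_comm, QuotientGroup.eq, Subgroup.mem_subgroupOf, Subgroup.mem_zpowers_iff]
  refine ⟨d, ?_⟩
  simp only [amb, Subgroup.coe_mul, InvMemClass.coe_inv, h]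
  rw [← ((wv_comm w).pow_right d).eq, inv_mul_cancel_left, zpow_natCast]

/-- There is a stem extension of the covering group of `G₂(3)` with kernel of order three. -/
theorem exists_cover_three {F : Type u} [Field F] [Fintype F] (hF : Fintype.card F = 3)
    [Finite (chevG2.SteinbergCover F)] :
    ∃ (Γ : Type u) (_ : Group Γ) (_ : Finite Γ) (σ : Γ →* chevG2.SteinbergCover F),
      Cfsg.IsStemExtension σ ∧ Nat.card σ.ker = 3 := by
  haveI : Fact (Nat.Prime 3) := ⟨Nat.prime_three⟩
  let e : F ≃+* ZMod 3 := (ZMod.ringEquivOfPrime F Nat.prime_three hF).symm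
  let g : Fin chevG2.nroots × F → Amb ⧸ Zc := fun z => (amb [(z.1.val, (e z.2).val)] : Amb ⧸ Zc)
  have hstX : ∀ (r : ℕ) (t : F), r < 12 →
      FreeGroup.lift g (chevG2.stX r t) = (amb [(r, (e t).val)] : Amb ⧸ Zc) := fun r t hr => by
    simp [ChevalleyDatum.stX, show r < chevG2.nroots from hr, g]
  have hword : ∀ l : List (ℕ × F), (∀ q ∈ l, q.1 < 12) →
      FreeGroup.lift g (chevG2.stWord l) = (amb (l.map fun q => (q.1, (e q.2).val)) : Amb ⧸ Zc) := by
    intro l hl
    induction l with
    | nil => simp [ChevalleyDatum.stWord]; rfl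
    | cons q l ih =>
      simp only [ChevalleyDatum.stWord, List.map_cons, List.prod_cons, map_mul] at ih ⊢
      rw [hstX _ _ (hl q List.mem_cons_self), ih fun a ha => hl a (List.mem_cons_of_mem _ ha),
        ← QuotientGroup.mk_mul, ← amb_append]
      rfl
  have hrel : ∀ x ∈ chevG2.steinbergRelsAB F, FreeGroup.lift g x = 1 := by
    rintro x (⟨r, t₁, t₂, hr, rfl⟩ | ⟨r, s, t, u, hr, hs, h₁, h₂, rfl⟩)
    · have hr' : r < 12 := hr
      rw [map_mul, map_mul, map_inv, hstX r t₁ hr', hstX r t₂ hr', hstX r _ hr', mul_inv_eq_one,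
        ← QuotientGroup.mk_mul]
      congr 1
      refine Subtype.ext ?_
      simp only [amb, wv, Subgroup.coe_mul, List.map_cons, List.map_nil, List.prod_cons, List.prod_nil, mul_one,
        map_add, ZMod.val_add, ← pow_add]
      exact pow_eq_pow_mod _ (Y_cube r)
    · have hr' : r < 12 := hr
      have hs' : s < 12 := hs
      obtain ⟨htab, hexp⟩ := ctab_eq hr' hs' h₁ h₂
      rw [htab] at hexp
      have hlt : ∀ c ∈ chevG2.commTerms r s, c.1 < 12 := fun c hc => (hexp c hc).1
      have hlt' : ∀ q ∈ chevG2.commWord F r s t u, q.1 < 12 := by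
        intro q hq
        obtain ⟨c, hc, rfl⟩ := List.mem_map.1 hq
        exact hlt c hc
      have hmap : ([(r, t), (s, u)] ++ chevG2.commWord F r s t u).map (fun q => (q.1, (e q.2).val)) =
          rhsW r s (e t).val (e u).val := by
        simp only [rhsW, htab, ChevalleyDatum.commWord, List.map_append, List.map_cons, List.map_nil, List.map_map]
        congr 1
        refine List.map_congr_left fun c _ => Prod.ext rfl ?_
        show (e ((c.2.1 : F) * (-t) ^ c.2.2.1 * u ^ c.2.2.2)).val = _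
        rw [map_mul, map_mul, map_pow, map_pow, map_neg, map_intCast]
        have : ((c.2.1 : ZMod 3) * (-(e t)) ^ c.2.2.1 * (e u) ^ c.2.2.2) =
            ((c.2.1 * (-((e t).val : ℤ)) ^ c.2.2.1 * ((e u).val : ℤ) ^ c.2.2.2 : ℤ) : ZMod 3) := by
          push_cast
          rw [ZMod.natCast_zmod_val, ZMod.natCast_zmod_val]
        rw [this]
        exact (Int.toNat_natCast _).symm.trans (congrArg Int.toNat (ZMod.val_intCast _))
      have hall : ∀ q ∈ [(r, t), (s, u)] ++ chevG2.commWord F r s t u, q.1 < 12 := by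
        intro q hq
        rcases List.mem_append.1 hq with h | h
        · simp only [List.mem_cons, List.not_mem_nil, or_false] at h
          rcases h with rfl | rfl
          exacts [hr', hs']
        · exact hlt' q h
      have key : FreeGroup.lift g (chevG2.stWord [(s, u), (r, t)]) =
          FreeGroup.lift g (chevG2.stWord ([(r, t), (s, u)] ++ chevG2.commWord F r s t u)) := by
        rw [hword _ hall, hword _ (by simp [hr', hs']), hmap]
        by_cases h0 : t = 0 ∨ u = 0
        · have hW : ∀ q ∈ chevG2.commWord F r s t u, (e q.2).val = 0 := by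
            intro q hq
            obtain ⟨c, hc, rfl⟩ := List.mem_map.1 hq
            obtain ⟨-, hi, hj⟩ := hexp c hc
            have : (c.2.1 : F) * (-t) ^ c.2.2.1 * u ^ c.2.2.2 = 0 := by
              rcases h0 with rfl | rfl
              · rw [_root_.neg_zero, zero_pow (by omega), mul_zero, zero_mul]
              · rw [zero_pow (by omega), mul_zero]
            simp [this]
          congr 1
          refine Subtype.ext ?_
          rw [← hmap]
          simp only [amb, wv, List.map_append, List.map_map, List.prod_append]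
          rw [show ((chevG2.commWord F r s t u).map ((fun q => Y q.1 ^ q.2) ∘ fun q => (q.1, (e q.2).val))).prod = 1 from
            List.prod_eq_one fun g hg => by
              obtain ⟨q, hq, rfl⟩ := List.mem_map.1 hg
              simp [hW q hq], mul_one]
          rcases h0 with rfl | rfl <;> simp
        · rw [not_or] at h0
          have hv : ∀ v : F, v ≠ 0 → (e v).val ∈ [1, 2] := fun v hv => by
            have h1 := ZMod.val_lt (e v)
            have h2 : (e v).val ≠ 0 := fun h => hv (e.map_eq_zero_iff.1 ((ZMod.val_eq_zero _).1 h))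
            simp only [List.mem_cons, List.not_mem_nil, or_false]
            omega
          have h := checkRel_true hr'
          simp only [checkRel, List.all_eq_true, List.mem_range, Bool.or_eq_true, decide_eq_true_eq,
            List.any_eq_true] at h
          obtain ⟨d, -, hd⟩ := ((h s hs').resolve_left (by tauto)) _ (hv t h0.1) _ (hv u h0.2)
          refine amb_rel (d := d) (eq_of_agree (by simp [hr', hs']) ?_ hd)
          rw [← hmap]
          intro q hq
          obtain ⟨a, ha, rfl⟩ := List.mem_map.1 hq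
          exact hall a ha
      simp only [ChevalleyDatum.stWord, List.map_append, List.map_cons, List.map_nil, List.prod_append,
        List.prod_cons, List.prod_nil, mul_one, map_mul] at key ⊢
      rw [map_inv, map_inv, map_inv, mul_inv_eq_one, mul_assoc, key]
      group
  let φ : chevG2.SteinbergCover F →* Amb ⧸ Zc := PresentedGroup.toGroup hrel
  have hφ : ∀ (r : ℕ) (t : F), r < 12 → φ (chevG2.scGen F r t) = (amb [(r, (e t).val)] : Amb ⧸ Zc) :=
    fun r t hr => by
      rw [← hstX r t hr]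
      rfl
  let P : Subgroup (chevG2.SteinbergCover F × Amb) :=
    MonoidHom.eqLocus (φ.comp (MonoidHom.fst _ Amb)) ((QuotientGroup.mk' Zc).comp (MonoidHom.snd _ Amb))
  let σ : P →* chevG2.SteinbergCover F := (MonoidHom.fst _ _).comp P.subtype
  have hker : ∀ x : P, x ∈ σ.ker ↔ x.1.1 = 1 := fun x => Iff.rfl
  have hsnd : ∀ x : P, x ∈ σ.ker → x.1.2 ∈ Zc := fun x hx => by
    have h : φ x.1.1 = ((x.1.2 : Amb) : Amb ⧸ Zc) := x.2
    rw [(hker x).1 hx, map_one] at h
    exact (QuotientGroup.eq_one_iff _).1 h.symm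
  let ι : σ.ker → Subgroup.zpowers Z := fun x => ⟨(x.1.1.2 : Equiv.Perm (Fin 1134)),
    Subgroup.mem_subgroupOf.1 (hsnd x.1 x.2)⟩
  have hzA : Z ∈ Amb := Subgroup.mem_centralizer_singleton_iff.2 rfl
  have hι : Function.Bijective ι := by
    refine ⟨fun x y h => Subtype.ext (Subtype.ext (Prod.ext ?_ (Subtype.ext ?_))), fun z => ?_⟩
    · rw [(hker x.1).1 x.2, (hker y.1).1 y.2]
    · have h' := congrArg Subtype.val h
      exact h' 
    · have hz : (z : Equiv.Perm (Fin 1134)) ∈ Amb := Subgroup.zpowers_le.2 hzA z.2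
      exact ⟨⟨⟨(1, ⟨z, hz⟩), show φ 1 = ((⟨z.1, hz⟩ : Amb) : Amb ⧸ Zc) by
        rw [map_one, eq_comm, QuotientGroup.eq_one_iff]; exact Subgroup.mem_subgroupOf.2 z.2⟩, rfl⟩, rfl⟩
  refine ⟨P, inferInstance, inferInstance, σ, ⟨?_, ?_, ?_⟩, ?_⟩
  · intro a
    obtain ⟨b, hb⟩ := QuotientGroup.mk_surjective (φ a)
    exact ⟨⟨(a, b), hb.symm⟩, rfl⟩
  · intro x hx
    rw [Subgroup.mem_center_iff]
    intro y
    refine Subtype.ext (Prod.ext ?_ (Subtype.ext ?_))
    · show y.1.1 * x.1.1 = x.1.1 * y.1.1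
      rw [(hker x).1 hx, one_mul, mul_one]
    · show (y.1.2 : Equiv.Perm (Fin 1134)) * x.1.2 = x.1.2 * y.1.2
      obtain ⟨m, hm⟩ := Subgroup.mem_zpowers_iff.1 (Subgroup.mem_subgroupOf.1 (hsnd x hx))
      rw [← hm]
      exact (Commute.zpow_right (Subgroup.mem_centralizer_singleton_iff.1 y.1.2.2) m).eq
  · let a : P := ⟨(chevG2.scGen F 0 1, amb [(0, (e 1).val)]), hφ 0 1 (by decide)⟩
    let b : P := ⟨(chevG2.scGen F 4 1, amb [(4, (e 1).val)]), hφ 4 1 (by decide)⟩
    have he : (e 1).val = 1 := by rw [map_one]; rfl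
    have hab1 : chevG2.scGen F 0 1 * chevG2.scGen F 4 1 = chevG2.scGen F 4 1 * chevG2.scGen F 0 1 := by
      have h := PresentedGroup.one_of_mem (rels := chevG2.steinbergRelsAB F)
        (Or.inr ⟨0, 4, (1 : F), 1, by decide, by decide, by decide, by decide +kernel, rfl⟩)
      rw [show chevG2.commWord F 0 4 1 1 = [] by
        rw [ChevalleyDatum.commWord, show chevG2.commTerms 0 4 = [] by decide +kernel]; rfl] at h
      simp only [ChevalleyDatum.stWord, List.map_nil, List.prod_nil, inv_one, mul_one, map_mul, map_inv] at h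
      simp only [ChevalleyDatum.scGen]
      rw [mul_assoc, mul_assoc, inv_mul_eq_one, ← inv_mul_eq_iff_eq_mul] at h
      first
        | exact h.symm
        | (have := h; group at this ⊢; exact this)
    obtain ⟨d, hd0, hd⟩ : ∃ d, ¬ 3 ∣ d ∧ wv [(0, 1), (4, 1)] = Z ^ d * wv [(4, 1), (0, 1)] := by
      rcases Bool.or_eq_true_iff.1 check_dev with h | h
      · exact ⟨1, by norm_num, eq_of_agree (by simp) (by simp) h⟩
      · exact ⟨2, by norm_num, eq_of_agree (by simp) (by simp) h⟩
    intro x hx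
    have hcomm2 : ((⁅a, b⁆ : P).1.2 : Equiv.Perm (Fin 1134)) = Z ^ d := by
      show wv [(0, (e 1).val)] * wv [(4, (e 1).val)] * (wv [(0, (e 1).val)])⁻¹ * (wv [(4, (e 1).val)])⁻¹ = Z ^ d
      rw [he, mul_inv_eq_iff_eq_mul, mul_inv_eq_iff_eq_mul]
      simpa [wv, mul_assoc] using hd
    obtain ⟨m, hm⟩ := Subgroup.mem_zpowers_iff.1 (Subgroup.mem_subgroupOf.1 (hsnd x hx))
    obtain ⟨k, hk⟩ : ∃ k : ℤ, Z ^ m = (Z ^ d) ^ k := by
      obtain ⟨u, v, huv⟩ : ∃ u v : ℤ, u * d + v * 3 = 1 :=
        ⟨Nat.gcdA d 3, Nat.gcdB d 3, by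
          have h := Nat.gcd_eq_gcd_ab d 3
          rw [(Nat.prime_three.coprime_iff_not_dvd.2 hd0).symm] at h
          push_cast at h ⊢; linarith⟩
      refine ⟨u * m, ?_⟩
      rw [← zpow_natCast, ← zpow_mul]
      have h3 : Z ^ (3 : ℤ) = 1 := by
        rw [show (3 : ℤ) = ((3 : ℕ) : ℤ) from rfl, zpow_natCast, ← Z_order, pow_orderOf_eq_one]
      conv_lhs => rw [← one_mul m, ← huv]
      rw [add_mul, zpow_add, show v * 3 * m = 3 * (v * m) by ring, zpow_mul Z 3, h3, one_zpow, mul_one]
      congr 1; ring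
    have hxk : x = ⁅a, b⁆ ^ k := by
      refine Subtype.ext (Prod.ext ?_ (Subtype.ext ?_))
      · show x.1.1 = (⁅a, b⁆ ^ k : P).1.1
        rw [(hker x).1 hx]
        show 1 = ((chevG2.scGen F 0 1) * chevG2.scGen F 4 1 * (chevG2.scGen F 0 1)⁻¹ * (chevG2.scGen F 4 1)⁻¹) ^ k
        rw [hab1, mul_inv_cancel_right, mul_inv_cancel, one_zpow]
      · rw [← hm, hk, ← hcomm2]
        rfl
    rw [hxk]
    exact zpow_mem (Subgroup.commutator_mem_commutator (Subgroup.mem_top a) (Subgroup.mem_top b)) k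
  · rw [Nat.card_eq_of_bijective ι hι, Nat.card_zpowers, Z_order]

end Cfsg.Agent.G2Cover
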